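import Cfsg.Agent.H562.FpfWeights2
import Cfsg.Prelude.Def_EvenType

/-!
# S5210 (V1): a TI Sylow subgroup which is transitive on the other Sylow subgroups (helper647)
-/

set_option autoImplicit false

namespace Cfsg.Agent.H647.P4

open Subgroup
open scoped Pointwise

section
variable {G : Type*} [Group G] {p : ℕ} {P : Sylow p G}

/-- the Sylow subgroup `P` is TI -/
def TI (P : Sylow p G) : Prop :=
  ∀ g : G, g ∉ normalizer ((P : Subgroup G) : Set G) → ∀ x ∈ (P : Subgroup G), g * x * g⁻¹ ∈ (P : Subgroup G) → x = 1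

theorem smul_eq_map (g : G) (Q : Sylow p G) : ((g • Q : Sylow p G) : Subgroup G) =
    (Q : Subgroup G).map (MulAut.conj g).toMonoidHom := rfl

theorem mem_smul' (g : G) (Q : Sylow p G) (x : G) : x ∈ ((g • Q : Sylow p G) : Subgroup G) ↔
    g⁻¹ * x * g ∈ (Q : Subgroup G) := by
  rw [smul_eq_map, mem_map]
  constructor
  · rintro ⟨y, hy, rfl⟩
    have : g⁻¹ * (MulAut.conj g).toMonoidHom y * g = y := by
      show g⁻¹ * (g * y * g⁻¹) * g = y
      group
    rwa [this]
  · intro h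
    refine ⟨_, h, ?_⟩
    show g * (g⁻¹ * x * g) * g⁻¹ = x
    group

variable [Finite G] [hp : Fact p.Prime]

theorem inf_of_ne (hTI : TI P) {P' : Sylow p G} (h : P' ≠ P) {x : G} (hx : x ∈ (P : Subgroup G))
    (hx' : x ∈ (P' : Subgroup G)) : x = 1 := by
  obtain ⟨g, rfl⟩ := MulAction.exists_smul_eq G P P'
  have hg : g ∉ normalizer ((P : Subgroup G) : Set G) := by
    intro hg
    apply h
    exact Sylow.smul_eq_iff_mem_normalizer.2 hg
  rw [mem_smul'] at hx'
  have h1 := hTI g hg _ hx' (by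
    have : g * (g⁻¹ * x * g) * g⁻¹ = x := by group
    rwa [this])
  have h2 : x = g * (g⁻¹ * x * g) * g⁻¹ := by group
  rw [h2, h1]
  group

theorem reg_of_ne (hTI : TI P) {P' : Sylow p G} (h : P' ≠ P) {x : G} (hx : x ∈ (P : Subgroup G))
    (hx' : x ∈ normalizer ((P' : Subgroup G) : Set G)) : x = 1 := by
  have h1 : x ∈ (P : Subgroup G) ⊓ normalizer (P' : Set G) := ⟨hx, hx'⟩
  rw [P.2.inf_normalizer_sylow P'] at h1
  exact inf_of_ne hTI h hx h1.2

omit [Finite G] hp in
theorem exists_ne (hnn : ¬ (P : Subgroup G).Normal) : ∃ P' : Sylow p G, P' ≠ P := by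
  by_contra hcon
  push Not at hcon
  apply hnn
  refine ⟨fun x hx g => ?_⟩
  have h1 := hcon (g • P)
  have h2 : g * x * g⁻¹ ∈ ((g • P : Sylow p G) : Subgroup G) := by
    rw [mem_smul']
    have : g⁻¹ * (g * x * g⁻¹) * g = x := by group
    rwa [this]
  rwa [h1] at h2

theorem exists_inv (h1 : ∀ P' P'' : Sylow p G, P' ≠ P → P'' ≠ P → ∃ x ∈ (P : Subgroup G),
      (P' : Subgroup G).map (MulAut.conj x).toMonoidHom = P'')
    (hnn : ¬ (P : Subgroup G).Normal) (D : Subgroup G) (hD : (Nat.card D).Coprime p)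
    (hDn : D ≤ normalizer ((P : Subgroup G) : Set G)) :
    ∃ P' : Sylow p G, P' ≠ P ∧ ∀ d ∈ D, d ∈ normalizer ((P' : Subgroup G) : Set G) := by
  obtain ⟨P0, hP0⟩ := exists_ne hnn
  have hfix : ∀ g ∈ normalizer ((P : Subgroup G) : Set G), ∀ Q : Sylow p G, Q ≠ P → g • Q ≠ P := by
    intro g hg Q hQ h
    apply hQ
    have h3 : g • Q = g • P := by rw [h, Sylow.smul_eq_iff_mem_normalizer.2 hg]
    exact smul_left_cancel g h3
  have hcard : (Nat.card D).Coprime (Nat.card (P : Subgroup G)) := by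
    obtain ⟨k, hk⟩ := IsPGroup.iff_card.1 P.2
    rw [hk]
    exact Nat.Coprime.pow_right k hD
  have hsol : Group.IsSolvable (P : Subgroup G) := by
    have hnil := P.2.isNilpotent
    infer_instance
  obtain ⟨x, hx, hx'⟩ := Cfsg.Agent.H562.FpfWeights.glauberman (P : Subgroup G) D
    (fun a ha y hy => (mem_normalizer_iff.1 (hDn ha) y).1 hy) hcard hsol P0
    (fun a ha => by
      obtain ⟨x, hx, hx'⟩ := h1 P0 (a • P0) hP0 (hfix a (hDn ha) P0 hP0)
      exact ⟨x, hx, (Sylow.ext hx').symm⟩)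
  refine ⟨x • P0, hfix x (le_normalizer hx) P0 hP0, fun d hd => ?_⟩
  exact Sylow.smul_eq_iff_mem_normalizer.1 (hx' d hd)

end

end Cfsg.Agent.H647.P4
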