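import Cfsg.Agent.H647.P4.GLDvd
import Cfsg.Agent.H647.P4.V1Abs

/-!
# S5210 (V1): no common fixed points (helper647)
-/

set_option autoImplicit false

namespace Cfsg.Agent.H647.P4

open Subgroup
open scoped Pointwise

universe u

section
variable {G : Type*} [Group G] {p : ℕ} {P : Sylow p G} [Finite G] [hp : Fact p.Prime]

theorem core_of_TI (hTI : TI P) (hnn : ¬ (P : Subgroup G).Normal) (N : Subgroup G) (hNn : N.Normal)
    (hN : IsPGroup p N) : N = ⊥ := by
  have hle : ∀ Q : Sylow p G, N ≤ (Q : Subgroup G) := by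
    intro Q
    obtain ⟨R, hR⟩ := hN.exists_le_sylow
    obtain ⟨g, rfl⟩ := MulAction.exists_smul_eq G R Q
    intro x hx
    rw [mem_smul']
    apply hR
    have := hNn.conj_mem x hx g⁻¹
    rwa [inv_inv] at this
  obtain ⟨P', hP'⟩ := exists_ne hnn
  rw [eq_bot_iff]
  intro x hx
  rw [mem_bot]
  exact inf_of_ne hTI hP' (hle P hx) (hle P' hx)

theorem emb_of_TI (hTI : TI P) (hnn : ¬ (P : Subgroup G).Normal) :
    Cfsg.IsStronglyPEmbedded p (normalizer ((P : Subgroup G) : Set G)) := by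
  have hT1 : (P : Subgroup G) ≠ ⊥ := by
    intro h
    apply hnn
    rw [h]
    infer_instance
  refine ⟨?_, ?_, P, ?_⟩
  · have h4 : Nat.card (P : Subgroup G) ≠ 1 := fun h => hT1 (Subgroup.eq_bot_of_card_eq _ h)
    obtain ⟨k, hk⟩ := IsPGroup.iff_card.1 P.2
    have h5 : k ≠ 0 := fun h => h4 (by rw [hk, h, pow_zero])
    have h6 : p ∣ Nat.card (P : Subgroup G) := by rw [hk]; exact dvd_pow_self p h5
    exact h6.trans (card_subgroup_dvd_card _)
  · intro h
    exact hnn (Subgroup.normalizer_eq_top_iff.1 h)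
  · rw [Cfsg.kGeneratedCore]
    refine iSup_le ?_
    rintro ⟨Q, hQT, hQ⟩
    intro r hr
    have hQ1 : Q ≠ ⊥ := by
      rintro rfl
      apply hQ
      intro A _ _
      have h4 : Nat.card A ≤ Nat.card (⊥ : Subgroup G) :=
        Nat.card_le_card_of_injective A.subtype A.subtype_injective
      rw [Subgroup.card_bot] at h4
      exact h4.trans (Nat.one_le_pow _ _ (Fact.out : p.Prime).pos)
    obtain ⟨q, hq, hq1⟩ := (Subgroup.bot_or_exists_ne_one Q).resolve_left hQ1
    by_contra hcon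
    exact hq1 (hTI r hcon q (hQT hq) (hQT ((mem_normalizer_iff.1 hr q).1 hq)))

omit [Finite G] hp in
theorem TI_subtype (hTI : TI P) {L : Subgroup G} (hL : (P : Subgroup G) ≤ L) : TI (P.subtype hL) := by
  intro g hg x hx hgx
  rw [Sylow.coe_subtype, mem_subgroupOf] at hx hgx
  apply Subtype.ext
  refine hTI g (fun hcon => hg ?_) x hx hgx
  rw [mem_normalizer_iff]
  intro y
  rw [Sylow.coe_subtype, mem_subgroupOf, mem_subgroupOf]
  exact (mem_normalizer_iff.1 hcon y)

theorem not_normal_subtype {P' : Sylow p G} (h : P' ≠ P) {L : Subgroup G} (hL : (P : Subgroup G) ≤ L)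
    (hL' : (P' : Subgroup G) ≤ L) : ¬ ((P.subtype hL : Sylow p L) : Subgroup L).Normal := by
  intro hn
  apply h
  have h1 : P'.subtype hL' = P.subtype hL := by
    have := Sylow.unique_of_normal (P.subtype hL) hn
    exact Subsingleton.elim _ _
  exact Sylow.subtype_injective h1

end

/-- S3083 -/
def SqLe : Prop :=
  ∀ {H : Type u} [Group H] [Finite H] (p : ℕ) [Fact p.Prime] (M : Subgroup H), Cfsg.IsStronglyPEmbedded p M →
    ∀ (T : Sylow p H) (V : Type u) [AddCommGroup V] [Module (ZMod p) V] [Finite V]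
      (ρ : Representation (ZMod p) H V), Function.Injective ρ → Nat.card T ^ 2 ≤ Nat.card V

/-- the action on a quotient by a group of fixed points -/
def quoAct {V : Type*} [CommGroup V] {H : Type*} [Group H] (f : H →* MulAut V) (C0 : Subgroup V)
    (hC0 : ∀ g : H, ∀ v ∈ C0, f g v = v) : H →* MulAut (V ⧸ C0) where
  toFun g := QuotientGroup.congr C0 C0 (f g) (by
    ext x
    rw [mem_map]
    constructor
    · rintro ⟨y, hy, rfl⟩
      show f g y ∈ C0
      rwa [hC0 g y hy]
    · intro hx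
      exact ⟨x, hx, hC0 g x hx⟩)
  map_one' := by
    apply MulEquiv.ext
    intro x
    obtain ⟨y, rfl⟩ := QuotientGroup.mk_surjective x
    show ((f 1 y : V) : V ⧸ C0) = y
    rw [map_one]; rfl
  map_mul' g h := by
    apply MulEquiv.ext
    intro x
    obtain ⟨y, rfl⟩ := QuotientGroup.mk_surjective x
    show ((f (g * h) y : V) : V ⧸ C0) = ((f g (f h y) : V) : V ⧸ C0)
    rw [map_mul]; rfl

theorem quoAct_mk {V : Type*} [CommGroup V] {H : Type*} [Group H] (f : H →* MulAut V) (C0 : Subgroup V)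
    (hC0 : ∀ g : H, ∀ v ∈ C0, f g v = v) (g : H) (v : V) : quoAct f C0 hC0 g (v : V ⧸ C0) = (f g v : V) := rfl

theorem nofix (hS : SqLe.{u}) {V : Type u} [CommGroup V] [Finite V] {p : ℕ} [hp : Fact p.Prime]
    (he : ∀ x : V, x ^ p = 1) {H : Type u} [Group H] [Finite H] (f : H →* MulAut V) (hf : Function.Injective f)
    {T : Sylow p H} (hTI : TI T) (hnn : ¬ (T : Subgroup H).Normal) (C0 : Subgroup V)
    (hC0 : ∀ g : H, ∀ v ∈ C0, f g v = v) (hle : Nat.card V ≤ Nat.card T ^ 2) : C0 = ⊥ := by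
  have heq : ∀ x : V ⧸ C0, x ^ p = 1 := by
    intro x
    obtain ⟨y, rfl⟩ := QuotientGroup.mk_surjective x
    rw [← QuotientGroup.mk_pow, he]; rfl
  obtain ⟨inst⟩ : Nonempty (Module (ZMod p) (Additive (V ⧸ C0))) :=
    ⟨AddCommGroup.zmodModule (n := p) (fun v => by exact heq v.toMul)⟩
  have hfV : Finite (Additive (V ⧸ C0)) := inferInstanceAs (Finite (V ⧸ C0))
  let ρ : Representation (ZMod p) H (Additive (V ⧸ C0)) := (linP p (V ⧸ C0)).comp (quoAct f C0 hC0)
  have hinj : Function.Injective (quoAct f C0 hC0) := by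
    rw [← MonoidHom.ker_eq_bot_iff]
    apply core_of_TI hTI hnn _ (MonoidHom.normal_ker _)
    rintro ⟨g, hg⟩
    refine ⟨1, ?_⟩
    apply Subtype.ext
    show g ^ p ^ 1 = 1
    rw [pow_one]
    apply hf
    rw [map_one, map_pow]
    have hd : ∀ v : V, v⁻¹ * f g v ∈ C0 := by
      intro v
      rw [← QuotientGroup.eq]
      have h1 : quoAct f C0 hC0 g (v : V ⧸ C0) = v := by
        rw [MonoidHom.mem_ker] at hg
        rw [hg]; rfl
      rw [quoAct_mk] at h1
      exact h1.symm
    have hpow : ∀ (j : ℕ) (v : V), ((f g) ^ j) v = v * (v⁻¹ * f g v) ^ j := by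
      intro j
      induction j with
      | zero => intro v; simp
      | succ j ih =>
        intro v
        rw [pow_succ', MulAut.mul_apply, ih, map_mul, hC0 g _ (C0.pow_mem (hd v) j), pow_succ']
        rw [← mul_assoc, mul_inv_cancel_left]
    apply MulEquiv.ext
    intro v
    rw [hpow, he, mul_one, MulAut.one_apply]
  have hinj' : Function.Injective ρ := (linP_injective p (V ⧸ C0)).comp hinj
  have h1 := hS p _ (emb_of_TI hTI hnn) T (Additive (V ⧸ C0)) ρ hinj'
  have h2 : Nat.card (Additive (V ⧸ C0)) = Nat.card (V ⧸ C0) := rfl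
  rw [h2] at h1
  have h3 := C0.card_eq_card_quotient_mul_card_subgroup
  have h4 : 0 < Nat.card (V ⧸ C0) := Nat.card_pos
  have h5 : 0 < Nat.card C0 := Nat.card_pos
  apply Subgroup.eq_bot_of_card_eq
  have h6 : Nat.card (V ⧸ C0) * Nat.card C0 ≤ Nat.card (V ⧸ C0) * 1 := by
    rw [← h3, mul_one]
    exact hle.trans h1
  have h7 := Nat.le_of_mul_le_mul_left h6 h4
  omega

end Cfsg.Agent.H647.P4
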